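import Cfsg.Agent.OrthMax.DecompRoots

/-!
# Hyperbolic frames of a quadratic form

`Frame`: hyperbolic pairs `e (inl i)`, `e (inr i)` of a quadratic form, mutually orthogonal.  `Perp` is
their common orthogonal complement, `Mon g π` says that `g` moves the frame by `π` up to scalars.
-/

set_option autoImplicit false
set_option linter.unusedSectionVars false

namespace CfsgLib.OrthGen

open Matrix Module CfsgLib.Spinor CfsgLib.Forms CfsgLib.Forms4 CfsgLib.OrthMax

variable {F : Type*} [Field F] {ι : Type} [Fintype ι] [DecidableEq ι] {Q : QuadraticForm F (ι → F)}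
variable {n : ℕ}

set_option quotPrecheck false in
local notation "𝔅" => QuadraticMap.polar (⇑Q)

/-- Mutually orthogonal hyperbolic pairs. -/
structure Frame (Q : QuadraticForm F (ι → F)) (n : ℕ) where
  /-- the vectors -/
  e : Fin n ⊕ Fin n → ι → F
  qe : ∀ c, Q (e c) = 0
  pol : ∀ c d, QuadraticMap.polar (⇑Q) (e c) (e d) = if d = c.swap then 1 else 0

theorem polar_self_zero {v : ι → F} (hv : Q v = 0) : 𝔅 v v = 0 := by
  rw [polar_self', hv, mul_zero]

theorem mulVec_inv (g : Isom Q) (v : ι → F) : mat Q g *ᵥ (mat Q g⁻¹ *ᵥ v) = v := by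
  rw [mulVec_mulVec, ← mat_mul, mul_inv_cancel, mat_one, one_mulVec]

theorem inv_mulVec (g : Isom Q) (v : ι → F) : mat Q g⁻¹ *ᵥ (mat Q g *ᵥ v) = v := by
  rw [mulVec_mulVec, ← mat_mul, inv_mul_cancel, mat_one, one_mulVec]

variable (D : Frame Q n)

/-- The orthogonal complement of the frame. -/
def Perp (v : ι → F) : Prop := ∀ c, 𝔅 (D.e c) v = 0

variable {D}

theorem Perp.smul {v : ι → F} (hv : Perp D v) (a : F) : Perp D (a • v) := fun c => by
  rw [QuadraticMap.polar_smul_right, hv c, smul_zero]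

theorem Perp.add {v w : ι → F} (hv : Perp D v) (hw : Perp D w) : Perp D (v + w) := fun c => by
  rw [QuadraticMap.polar_add_right, hv c, hw c, add_zero]

theorem perp_zero : Perp D (0 : ι → F) := fun c => by rw [QuadraticMap.polar_zero_right]

theorem polar_sum_right (u : ι → F) {κ : Type} [Fintype κ] (f : κ → ι → F) :
    𝔅 u (∑ d, f d) = ∑ d, 𝔅 u (f d) := by
  classical
  suffices ∀ s : Finset κ, 𝔅 u (∑ d ∈ s, f d) = ∑ d ∈ s, 𝔅 u (f d) from this _
  intro s
  induction s using Finset.induction_on with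
  | empty => simp
  | insert a s ha ih => rw [Finset.sum_insert ha, Finset.sum_insert ha, QuadraticMap.polar_add_right, ih]

variable (D)

/-- The component of a vector orthogonal to the frame. -/
def rest (v : ι → F) : ι → F := v - ∑ d, 𝔅 (D.e d.swap) v • D.e d

theorem perp_rest (v : ι → F) : Perp D (rest D v) := fun c => by
  rw [rest, QuadraticMap.polar_sub_right, polar_sum_right]
  simp only [QuadraticMap.polar_smul_right, smul_eq_mul, D.pol, mul_ite, mul_one, mul_zero,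
    Finset.sum_ite_eq', Finset.mem_univ, if_true, Sum.swap_swap, sub_self]

theorem split_rest (v : ι → F) : v = rest D v + ∑ d, 𝔅 (D.e d.swap) v • D.e d := by
  rw [rest, sub_add_cancel]

/-- An isometry is determined by the frame and its complement. -/
theorem isom_ext {g g' : Isom Q} (he : ∀ c, mat Q g *ᵥ D.e c = mat Q g' *ᵥ D.e c)
    (hw : ∀ v, Perp D v → mat Q g *ᵥ v = mat Q g' *ᵥ v) : g = g' := by
  refine mat_ext Q (Matrix.ext_iff_mulVec.2 fun v => ?_)
  rw [split_rest D v, mulVec_add, mulVec_add, hw _ (perp_rest D v), mulVec_sum, mulVec_sum]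
  congr 1
  exact Finset.sum_congr rfl fun d _ => by rw [mulVec_smul, mulVec_smul, he]

/-- The frame is moved by `π` up to scalars. -/
def Mon (g : Isom Q) (π : Equiv.Perm (Fin n ⊕ Fin n)) : Prop :=
  ∀ c, ∃ a : F, a ≠ 0 ∧ mat Q g *ᵥ D.e c = a • D.e (π c)

/-- The complement is fixed pointwise. -/
def FixPerp (g : Isom Q) : Prop := ∀ v, Perp D v → mat Q g *ᵥ v = v

variable {D}

theorem Mon.one : Mon D 1 1 := fun c => ⟨1, one_ne_zero, by simp [mat_one]⟩

theorem Mon.mul {g g' : Isom Q} {π π' : Equiv.Perm (Fin n ⊕ Fin n)} (h : Mon D g π) (h' : Mon D g' π') :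
    Mon D (g * g') (π * π') := fun c => by
  obtain ⟨a, ha, e⟩ := h' c
  obtain ⟨b, hb, e'⟩ := h (π' c)
  exact ⟨a * b, mul_ne_zero ha hb, by
    rw [mat_mul, ← mulVec_mulVec, e, mulVec_smul, e', smul_smul, Equiv.Perm.mul_apply]⟩

theorem Mon.inv {g : Isom Q} {π : Equiv.Perm (Fin n ⊕ Fin n)} (h : Mon D g π) : Mon D g⁻¹ π⁻¹ := fun c => by
  obtain ⟨a, ha, e⟩ := h (π⁻¹ c)
  rw [← Equiv.Perm.mul_apply, mul_inv_cancel, Equiv.Perm.one_apply] at e
  refine ⟨a⁻¹, inv_ne_zero ha, ?_⟩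
  have := congrArg (fun v => a⁻¹ • (mat Q g⁻¹ *ᵥ v)) e
  simp only [inv_mulVec, mulVec_smul, inv_smul_smul₀ ha] at this
  exact this.symm

theorem Mon.pow {g : Isom Q} {π : Equiv.Perm (Fin n ⊕ Fin n)} (h : Mon D g π) :
    ∀ j : ℕ, Mon D (g ^ j) (π ^ j)
  | 0 => by rw [pow_zero, pow_zero]; exact Mon.one
  | j + 1 => by rw [pow_succ, pow_succ]; exact (h.pow j).mul h

theorem Mon.perp {g : Isom Q} {π : Equiv.Perm (Fin n ⊕ Fin n)} (h : Mon D g π) {v : ι → F} (hv : Perp D v) :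
    Perp D (mat Q g *ᵥ v) := fun c => by
  obtain ⟨a, ha, e⟩ := h (π⁻¹ c)
  rw [← Equiv.Perm.mul_apply, mul_inv_cancel, Equiv.Perm.one_apply] at e
  have h0 : 𝔅 (mat Q g *ᵥ D.e (π⁻¹ c)) (mat Q g *ᵥ v) = 0 := by rw [polar_mulVec]; exact hv _
  rw [e, QuadraticMap.polar_smul_left, smul_eq_mul, mul_eq_zero] at h0
  exact h0.resolve_left ha

theorem FixPerp.mul {g g' : Isom Q} (h : FixPerp D g) (h' : FixPerp D g') : FixPerp D (g * g') :=
  fun v hv => by rw [mat_mul, ← mulVec_mulVec, h' v hv, h v hv]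

/-- The Eichler element at a frame vector and a vector of the complement. -/
def E (D : Frame Q n) (c : Fin n ⊕ Fin n) {v : ι → F} (hv : Perp D v) : Isom Q :=
  eichIso Q (D.e c) v (D.qe c) (hv c)

theorem E_congr (c : Fin n ⊕ Fin n) {v v' : ι → F} (hv : Perp D v) (hv' : Perp D v') (h : v = v') :
    E D c hv = E D c hv' := by subst h; rfl

theorem E_mul (c : Fin n ⊕ Fin n) {v v' : ι → F} (hv : Perp D v) (hv' : Perp D v') :
    E D c hv * E D c hv' = E D c (hv.add hv') := mat_ext Q (by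
  rw [mat_mul, E, E, E, mat_eichIso, mat_eichIso, mat_eichIso, eich_mul (D.qe c) (hv c) (hv' c)])

theorem E_zero (c : Fin n ⊕ Fin n) {v : ι → F} (hv : Perp D v) (h : v = 0) : E D c hv = 1 :=
  mat_ext Q (by rw [E, mat_eichIso, h, eich_zero, mat_one])

theorem E_pow (c : Fin n ⊕ Fin n) {v : ι → F} (hv : Perp D v) :
    ∀ N : ℕ, E D c hv ^ N = E D c (hv.smul (N : F))
  | 0 => by rw [pow_zero, E_zero c _ (by simp)]
  | N + 1 => by
    rw [pow_succ, E_pow c hv N, E_mul]
    exact E_congr c _ _ (by push_cast; module)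

theorem conj_E {g : Isom Q} {π : Equiv.Perm (Fin n ⊕ Fin n)} (hg : Mon D g π) {c : Fin n ⊕ Fin n}
    {v : ι → F} (hv : Perp D v) {a : F} (ha : mat Q g *ᵥ D.e c = a • D.e (π c)) :
    g * E D c hv * g⁻¹ = E D (π c) ((hg.perp hv).smul a) := by
  rw [mul_inv_eq_iff_eq_mul]
  refine mat_ext Q ?_
  rw [mat_mul, mat_mul, E, E, mat_eichIso, mat_eichIso, conj_eich, ha, eich_smul_left]

variable [Fintype F]

theorem rootMem_of_E {M : Subgroup (Isom Q)} (c : Fin n ⊕ Fin n) {v : ι → F} (hv : Perp D v)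
    (h : E D c hv ∈ M) : RootMem M (D.e c) v := RootMem.of_iso (D.qe c) (hv c) h

theorem mem_rootSpace_of_E {M : Subgroup (Isom Q)} (c : Fin n ⊕ Fin n) {v : ι → F} (hv : Perp D v)
    (h : ∀ t : F, E D c (hv.smul t) ∈ M) : v ∈ rootSpace M (D.qe c) :=
  ⟨hv c, fun t => rootMem_of_E c _ (h t)⟩

theorem E_mem_omega (hQ : (QuadraticMap.polarBilin Q).Nondegenerate) (hn : 5 ≤ Fintype.card ι)
    (c : Fin n ⊕ Fin n) {v : ι → F} (hv : Perp D v) : E D c hv ∈ Cfsg.Omega F ⇑Q :=
  eich_mem_omega hQ hn (D.qe c) (hv c)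

end CfsgLib.OrthGen
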