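import Cfsg.Agent.OrthGen.Weyl

/-!
# From one full complement to all of `Ω`

A subgroup containing a negative cycle and, at one vector of the frame, the Eichler elements of the
whole complement contains `Ω`.
-/

set_option autoImplicit false
set_option linter.unusedSectionVars false

namespace CfsgLib.OrthGen

open Matrix Module CfsgLib.Spinor CfsgLib.Forms CfsgLib.Forms4 CfsgLib.OrthMax

variable {F : Type*} [Field F] [Fintype F] {ι : Type} [Fintype ι] [DecidableEq ι]
variable {Q : QuadraticForm F (ι → F)} {n : ℕ} {D : Frame Q n} {M : Subgroup (Isom Q)}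

set_option quotPrecheck false in
local notation "𝔅" => QuadraticMap.polar (⇑Q)

theorem rootSpace_of_smul {u : ι → F} (hu : Q u = 0) {a : F} (ha : a ≠ 0) (hau : Q (a • u) = 0)
    {v : ι → F} (h : v ∈ rootSpace M hau) : v ∈ rootSpace M hu := by
  refine ⟨?_, fun t => ?_⟩
  · have := h.1
    rw [QuadraticMap.polar_smul_left, smul_eq_mul, mul_eq_zero] at this
    exact this.resolve_left ha
  · have := (rootMem_smul_left a).1 (h.2 (a⁻¹ * t))
    rwa [smul_smul, mul_inv_cancel_left₀ ha] at this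

theorem rootSpace_move {g : Isom Q} (hg : g ∈ M) {π : Equiv.Perm (Fin n ⊕ Fin n)} (hm : Mon D g π)
    {c : Fin n ⊕ Fin n} {v : ι → F} (h : v ∈ rootSpace M (D.qe c)) :
    mat Q g *ᵥ v ∈ rootSpace M (D.qe (π c)) := by
  obtain ⟨a, ha, e⟩ := hm c
  have h0 : Q (mat Q g *ᵥ D.e c) = 0 := by rw [quad_mulVec, D.qe]
  have h1 : Q (a • D.e (π c)) = 0 := by rw [← e, h0]
  refine rootSpace_of_smul (D.qe _) ha h1 ?_
  have h2 := rootSpace_map hg h h0
  refine ⟨?_, fun t => ?_⟩
  · rw [← e]; exact h2.1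
  · rw [← e]; exact h2.2 t

theorem exists_polar_ne (hQ : (QuadraticMap.polarBilin Q).Nondegenerate) {w : ι → F} (hw : Perp D w)
    (hw0 : w ≠ 0) : ∃ v, Perp D v ∧ 𝔅 w v ≠ 0 := by
  obtain ⟨z, hz⟩ : ∃ z, 𝔅 w z ≠ 0 := by
    by_contra! h
    exact hw0 (hQ.1 w h)
  refine ⟨rest D z, perp_rest D z, ?_⟩
  rw [rest, QuadraticMap.polar_sub_right, polar_sum_right, Finset.sum_eq_zero fun d _ => ?_, sub_zero]
  · exact hz
  · rw [QuadraticMap.polar_smul_right, QuadraticMap.polar_comm (⇑Q) w, hw d, smul_zero]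

theorem omega_le_of_complement {k : ℕ} {D : Frame Q (k + 2)} (hQ : (QuadraticMap.polarBilin Q).Nondegenerate)
    (hn : 5 ≤ Fintype.card ι) {g : Isom Q} (hg : g ∈ M) (hm : Mon D g (negCycle k)) {w : ι → F}
    (hw : Perp D w) (hw0 : w ≠ 0) {c : Fin (k + 2) ⊕ Fin (k + 2)}
    (hc : ∀ v, Perp D v → v ∈ rootSpace M (D.qe c)) : Cfsg.Omega F ⇑Q ≤ M := by
  have hall : ∀ d v, Perp D v → v ∈ rootSpace M (D.qe d) := by
    refine all_of_closed (S := {d | ∀ v, Perp D v → v ∈ rootSpace M (D.qe d)}) (fun d hd v hv => ?_) hc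
    have := rootSpace_move hg hm (hd _ (hm.inv.perp hv))
    rwa [mulVec_inv] at this
  obtain ⟨v', hv', hwv⟩ := exists_polar_ne hQ hw hw0
  have he : ∀ c d, d ≠ c.swap → D.e d ∈ rootSpace M (D.qe c) := by
    intro c d hd
    have hcd : 𝔅 (D.e d) (D.e c) = 0 := by
      rw [D.pol, if_neg fun h => hd (by rw [h, Sum.swap_swap])]
    have hfix : mat Q (eichIso Q (D.e d) v' (D.qe d) (hv' d)) *ᵥ D.e c = D.e c := by
      rw [mat_eichIso, eich_mulVec, hcd, QuadraticMap.polar_comm (⇑Q) v', hv' c]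
      simp
    have h := rootSpace_fixed (rootSpace_iso (hall d v' hv')) hfix (hall c w hw)
    rw [mat_eichIso, eich_mulVec, hw d] at h
    simp only [zero_smul, mul_zero, sub_zero, zero_sub, ← neg_smul, add_sub_cancel_left] at h
    rw [QuadraticMap.polar_comm] at h
    exact (Submodule.smul_mem_iff _ (neg_ne_zero.2 hwv)).1 h
  have full : ∀ c, Full M (D.e c) := by
    intro c v hv
    have hmem : v ∈ rootSpace M (D.qe c) := by
      rw [split_rest D v]
      refine Submodule.add_mem _ (hall c _ (perp_rest D v)) (Submodule.sum_mem _ fun d _ => ?_)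
      rcases eq_or_ne d c.swap with rfl | hd
      · rw [Sum.swap_swap, hv, zero_smul]
        exact Submodule.zero_mem _
      · exact Submodule.smul_mem _ _ (he c d hd)
    simpa using hmem.2 1
  exact omega_le_of_full_pair hQ hn (D.qe (.inl 0)) (D.qe (.inr 0))
    (by rw [D.pol]; simp) (full _) (full _)

end CfsgLib.OrthGen
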