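import Cfsg.Agent.OrthGen.Finish
import Cfsg.Agent.SL2Pres.Exist

/-!
# Two generators of `Ω` with a hyperbolic frame

For more than two scalars: a torus element times a root element, and a root element times a negative
cycle.  For two scalars: a root element times an element of order three, and the negative cycle.
-/

set_option autoImplicit false
set_option linter.unusedSectionVars false
set_option maxHeartbeats 800000

namespace CfsgLib.OrthGen

open Matrix Module CfsgLib.Spinor CfsgLib.Forms CfsgLib.Forms4 CfsgLib.OrthMax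

variable {F : Type*} [Field F] [Fintype F] {ι : Type} [Fintype ι] [DecidableEq ι]
variable {Q : QuadraticForm F (ι → F)} {k : ℕ}

set_option quotPrecheck false in
local notation "𝔅" => QuadraticMap.polar (⇑Q)

variable {D : Frame Q (k + 2)} {M : Subgroup (Isom Q)}

theorem eich_add_left {u v w : ι → F} (huv : 𝔅 u v = 0) (hu : Q u = 0) (hv : Q v = 0)
    (huw : 𝔅 u w = 0) (hvw : 𝔅 v w = 0) :
    eich Q (u + v) w = eich Q u w * eich Q v w * eich Q u ((-Q w) • v) := by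
  refine Matrix.ext_iff_mulVec.2 fun x => ?_
  have huu := polar_self_zero hu
  have hvv := polar_self_zero hv
  simp only [← mulVec_mulVec, eich_mulVec, QuadraticMap.polar_add_left, QuadraticMap.polar_smul_left,
    QuadraticMap.map_smul, hv, QuadraticMap.polar_add_right, QuadraticMap.polar_sub_right,
    QuadraticMap.polar_smul_right, huv, QuadraticMap.polar_comm (⇑Q) v u, huw, hvw,
    QuadraticMap.polar_comm (⇑Q) w u, QuadraticMap.polar_comm (⇑Q) w v, huu, hvv, smul_eq_mul,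
    polar_self' Q w]
  module

theorem E_congr₂ {c c' : Fin (k + 2) ⊕ Fin (k + 2)} (hc : c = c') {v v' : ι → F} (hv : Perp D v)
    (hv' : Perp D v') (h : v = v') : E D c hv = E D c' hv' := by subst hc; exact E_congr c hv hv' h

theorem fieldPred_cast : ((Fintype.card F - 1 : ℕ) : F) = -1 := by
  rw [Nat.cast_sub Fintype.card_pos, Nat.cast_one, Nat.cast_card_eq_zero, zero_sub]

/-- Three scalars or more. -/
theorem two_gen_large (hQ : (QuadraticMap.polarBilin Q).Nondegenerate) (hn : 5 ≤ Fintype.card ι)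
    (h3 : 3 ≤ Fintype.card F) {g : Isom Q} (hgΩ : g ∈ Cfsg.Omega F ⇑Q) (hgm : Mon D g (negCycle k))
    {w : ι → F} (hw : Perp D w) (hw0 : w ≠ 0) {x0 y0 : ι → F} (hx : Perp D x0) (hy : Perp D y0)
    (hspan : ∀ v, Perp D v → ∃ α β : F, v = α • x0 + β • y0) (hk : 1 ≤ k ∨ y0 = 0) :
    ∃ a b, a ∈ Cfsg.Omega F ⇑Q ∧ b ∈ Cfsg.Omega F ⇑Q ∧
      Cfsg.Omega F ⇑Q ≤ Subgroup.closure {a, b} := by
  classical
  obtain ⟨ω, hω, hgen⟩ := CfsgLib.SL2Pres.exists_generator (F := F)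
  have hω1 : (ω : F) ≠ 1 := by
    intro e
    have : orderOf ω = 1 := by rw [Units.val_eq_one.1 e]; exact orderOf_one
    omega
  have hω0 : (ω : F) ≠ 0 := ω.ne_zero
  have h01 : (0 : Fin (k + 2)) ≠ 1 := by simp
  -- the torus element
  obtain ⟨h, hh⟩ : ∃ h, h = weyl D h01 (-(ω : F)) * weyl D h01 1 := ⟨_, rfl⟩
  set d : Fin (k + 2) ⊕ Fin (k + 2) → F := fun c =>
    if c = .inl 0 ∨ c = .inr 1 then (ω : F) else if c = .inr 0 ∨ c = .inl 1 then (ω : F)⁻¹ else 1
    with hd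
  obtain ⟨t1, t2, t3, t4, t5, tf⟩ := weyl_spec D h01 (one_ne_zero (α := F))
  obtain ⟨s1, s2, s3, s4, s5, sf⟩ := weyl_spec D h01 (neg_ne_zero.2 hω0)
  have hhe : ∀ c, mat Q h *ᵥ D.e c = d c • D.e c := by
    rintro (a | a) <;> rw [hh, mat_mul, ← mulVec_mulVec]
    · rcases eq_or_ne a 0 with rfl | a0
      · rw [t1, mulVec_smul, s4, smul_smul]; simp [hd]
      rcases eq_or_ne a 1 with rfl | a1
      · rw [t4, mulVec_smul, s1, smul_smul]; simp [hd, inv_neg]
      rw [(t5 a a0 a1).1, (s5 a a0 a1).1]; simp [hd, a0, a1]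
    · rcases eq_or_ne a 0 with rfl | a0
      · rw [t3, mulVec_smul, s2, smul_smul]; simp [hd, inv_neg]
      rcases eq_or_ne a 1 with rfl | a1
      · rw [t2, mulVec_smul, s3, smul_smul]; simp [hd]
      rw [(t5 a a0 a1).2, (s5 a a0 a1).2]; simp [hd, a0, a1]
  have hd0 : ∀ c, d c ≠ 0 := fun c => by simp only [hd]; split_ifs <;> simp [hω0]
  have hhm : Mon D h 1 := fun c => ⟨d c, hd0 c, hhe c⟩
  have hhf : FixPerp D h := hh ▸ sf.mul tf
  have hhΩ : h ∈ Cfsg.Omega F ⇑Q :=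
    hh ▸ mul_mem (weyl_mem_omega D hQ hn _ _) (weyl_mem_omega D hQ hn _ _)
  have hconj : ∀ (c : Fin (k + 2) ⊕ Fin (k + 2)) {v : ι → F} (hv : Perp D v),
      h * E D c hv * h⁻¹ = E D c (hv.smul (d c)) := fun c v hv => by
    rw [conj_E hhm hv (by rw [hhe]; rfl)]
    exact E_congr c _ _ (by rw [hhf v hv])
  have hhN : h ^ (Fintype.card F - 1) = 1 := by
    have hp : ∀ N : ℕ, (∀ c, mat Q (h ^ N) *ᵥ D.e c = d c ^ N • D.e c) ∧ FixPerp D (h ^ N) := by
      intro N
      induction N with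
      | zero => exact ⟨fun c => by simp [mat_one], fun v _ => by simp [mat_one]⟩
      | succ N ih =>
        rw [pow_succ]
        exact ⟨fun c => by rw [mat_mul, ← mulVec_mulVec, hhe, mulVec_smul, ih.1, smul_smul,
          pow_succ'], ih.2.mul hhf⟩
    refine isom_ext D (fun c => ?_) fun v hv => by rw [(hp _).2 v hv, mat_one, one_mulVec]
    rw [(hp _).1, FiniteField.pow_card_sub_one_eq_one _ (hd0 c), one_smul, mat_one, one_mulVec]
  -- the second root element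
  obtain ⟨c₂, hc₂, hy2⟩ : ∃ c₂, (d c₂ = 1 ∨ y0 = 0) ∧ ∃ j, (negCycle k ^ j) c₂ = .inr 1 := by
    rcases hk with hk | hk
    · refine ⟨.inl ⟨2, by omega⟩, Or.inl ?_, ?_⟩
      · simp [hd, Fin.ext_iff]
      · exact all_of_closed (S := {d | ∃ j, (negCycle k ^ j) (.inl ⟨2, by omega⟩) = d})
          (fun c ⟨j, hj⟩ => ⟨j + 1, by rw [pow_succ', Equiv.Perm.mul_apply, hj]⟩) ⟨0, rfl⟩ _
    · exact ⟨.inr 1, Or.inr hk, 0, rfl⟩
  obtain ⟨j, hj⟩ := hy2
  obtain ⟨aj, haj0, haj⟩ := (hgm.pow j) c₂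
  rw [hj] at haj
  set y := mat Q (g ^ j)⁻¹ *ᵥ y0 with hydef
  have hyp : Perp D y := (hgm.pow j).inv.perp hy
  have hcY : Commute h (E D c₂ hyp) := by
    rcases hc₂ with h1 | h0
    · rw [Commute, SemiconjBy, ← mul_inv_eq_iff_eq_mul, hconj]
      exact E_congr c₂ _ _ (by rw [h1, one_smul])
    · rw [E_zero c₂ hyp (by rw [hydef, h0, mulVec_zero])]
      exact Commute.one_right h
  set c₁ : Fin (k + 2) ⊕ Fin (k + 2) := .inr 1
  refine ⟨h * E D c₂ hyp, E D c₁ hx * g, mul_mem hhΩ (E_mem_omega hQ hn _ _),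
    mul_mem (E_mem_omega hQ hn _ _) hgΩ, ?_⟩
  set M := Subgroup.closure ({h * E D c₂ hyp, E D c₁ hx * g} : Set (Isom Q))
  have ha : h * E D c₂ hyp ∈ M := Subgroup.subset_closure (by simp)
  have hb : E D c₁ hx * g ∈ M := Subgroup.subset_closure (by simp)
  have hY : E D c₂ hyp ∈ M := by
    have h1 := pow_mem ha (Fintype.card F - 1)
    rw [hcY.mul_pow, hhN, one_mul, E_pow] at h1
    have h2 := inv_mem h1
    rwa [← mul_one (E D c₂ _)⁻¹, inv_mul_eq_of_eq_mul (a := E D c₂ (hyp.smul _)) (c := E D c₂ hyp)] at h2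
    rw [E_mul, E_zero]
    rw [fieldPred_cast]; module
  have hhM : h ∈ M := by simpa using mul_mem ha (inv_mem hY)
  -- all multiples from one
  have hd1 : d c₁ = ω := by simp [hd, c₁]
  have scale : ∀ {v : ι → F} (hv : Perp D v), E D c₁ hv ∈ M → ∀ t : F, E D c₁ (hv.smul t) ∈ M := by
    intro v hv hm
    have hpow : ∀ N : ℕ, E D c₁ (hv.smul ((ω : F) ^ N)) ∈ M := by
      intro N
      induction N with
      | zero => rwa [E_congr c₁ _ hv (by simp)]
      | succ N ih =>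
        have := mul_mem (mul_mem hhM ih) (inv_mem hhM)
        rw [hconj, hd1] at this
        rwa [E_congr c₁ _ ((hv.smul ((ω : F) ^ N)).smul (ω : F)) (by rw [smul_smul, pow_succ'])]
    intro t
    by_cases ht : t = 0
    · rw [E_zero c₁ _ (by rw [ht, zero_smul])]; exact one_mem _
    · obtain ⟨N, rfl⟩ := hgen t ht
      exact hpow N
  -- the first root group
  set X : F → Isom Q := fun t => E D c₁ (hx.smul t) with hX
  have hXadd : ∀ s t, X s * X t = X (s + t) := fun s t => by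
    simp only [hX, E_mul]; exact E_congr c₁ _ _ (by rw [add_smul])
  have hXneg : ∀ t, (X t)⁻¹ = X (-t) := fun t => inv_eq_of_mul_eq_one_right (by
    rw [hXadd, add_neg_cancel]; exact E_zero c₁ _ (zero_smul _ _))
  have hX1 : E D c₁ hx = X 1 := E_congr c₁ _ _ (one_smul _ _).symm
  obtain ⟨h₁, hh₁⟩ : ∃ x, x = g * h * g⁻¹ := ⟨_, rfl⟩
  have hh₁m : Mon D h₁ 1 := by
    have := (hgm.mul hhm).mul hgm.inv
    rwa [mul_one, mul_inv_cancel, ← hh₁] at this
  have hh₁f : FixPerp D h₁ := fun v hv => by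
    rw [hh₁, mat_mul, mat_mul, ← mulVec_mulVec, ← mulVec_mulVec, hhf _ (hgm.inv.perp hv), mulVec_inv]
  have hh₁c : mat Q h₁ *ᵥ D.e c₁ = (ω : F)⁻¹ • D.e c₁ := by
    obtain ⟨a, ha', e⟩ := hgm (.inr (0 : Fin (k + 1)).castSucc)
    rw [(negCycle_castSucc (0 : Fin (k + 1))).2] at e
    have e' : D.e c₁ = a⁻¹ • mat Q g *ᵥ D.e (.inr 0) := by
      rw [show (0 : Fin (k + 2)) = (0 : Fin (k + 1)).castSucc from rfl, e, inv_smul_smul₀ ha']
      rfl
    rw [e', hh₁, mat_mul, mat_mul, ← mulVec_mulVec, ← mulVec_mulVec, mulVec_smul, inv_mulVec,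
      mulVec_smul, hhe, mulVec_smul, mulVec_smul, smul_comm]
    simp [hd, c₁]
  have hh₁X : ∀ t, h₁ * X t * h₁⁻¹ = X ((ω : F)⁻¹ * t) := fun t => by
    simp only [hX]
    rw [conj_E hh₁m (hx.smul t) (by rw [hh₁c]; rfl)]
    exact E_congr c₁ _ _ (by rw [hh₁f _ (hx.smul t), smul_smul])
  have hhX : ∀ t, h * X t * h⁻¹ = X ((ω : F) * t) := fun t => by
    simp only [hX, hconj, hd1]; exact E_congr c₁ _ _ (by rw [smul_smul])
  have hcomm : h * h₁ = h₁ * h := by
    refine isom_ext D (fun c => ?_) fun v hv => ?_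
    · obtain ⟨a, -, e⟩ := hh₁m c
      rw [Equiv.Perm.one_apply] at e
      rw [mat_mul, mat_mul, ← mulVec_mulVec, ← mulVec_mulVec, e, mulVec_smul, hhe, mulVec_smul, e,
        smul_comm]
    · rw [mat_mul, mat_mul, ← mulVec_mulVec, ← mulVec_mulVec, hhf v hv, hh₁f v hv, hhf v hv]
  have hz : X 1 * h₁ * (X 1)⁻¹ ∈ M := by
    have := mul_mem (mul_mem hb hhM) (inv_mem hb)
    rw [hX1] at this
    rwa [show X 1 * g * h * (X 1 * g)⁻¹ = X 1 * h₁ * (X 1)⁻¹ by rw [hh₁]; group] at this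
  set e₀ : F := (ω : F) + (ω : F)⁻¹ * (1 - (ω : F)) + -1 with he₀
  have he₀0 : e₀ ≠ 0 := by
    have : e₀ = ((ω : F) - 1) * (1 - (ω : F)⁻¹) := by rw [he₀]; ring
    rw [this]
    refine mul_ne_zero (sub_ne_zero.2 hω1) (sub_ne_zero.2 fun e => hω1 ?_)
    rw [← inv_inv (ω : F), ← e, inv_one]
  have hXe : X e₀ ∈ M := by
    have hm := mul_mem (mul_mem (mul_mem hhM hz) (inv_mem hhM)) (inv_mem hz)
    convert hm using 1
    symm
    calc h * (X 1 * h₁ * (X 1)⁻¹) * h⁻¹ * (X 1 * h₁ * (X 1)⁻¹)⁻¹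
        = h * X 1 * h⁻¹ * ((h * h₁ * h⁻¹) * ((h * X 1 * h⁻¹)⁻¹ * X 1) * h₁⁻¹) * (X 1)⁻¹ := by group
      _ = X (ω : F) * (h₁ * X (-(ω : F) + 1) * h₁⁻¹) * X (-1) := by
        rw [hhX, mul_one, hXneg, hXadd, hcomm, mul_inv_cancel_right, hXneg]
      _ = X e₀ := by
        rw [hh₁X, hXadd, hXadd, he₀]
        congr 1
        ring
  have hXall : ∀ t, X t ∈ M := fun t => by
    have := scale (hx.smul e₀) hXe (t / e₀)
    rwa [E_congr c₁ _ (hx.smul t) (by rw [smul_smul, div_mul_cancel₀ _ he₀0])] at this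
  have hgM : g ∈ M := by
    have := mul_mem (inv_mem (hXall 1)) hb
    rwa [hX1, inv_mul_cancel_left] at this
  -- the second root group, moved
  have hy0 : ∀ t, E D c₁ (hy.smul t) ∈ M := by
    have hm := mul_mem (mul_mem (pow_mem hgM j) hY) (inv_mem (pow_mem hgM j))
    rw [conj_E (hgm.pow j) hyp (by rw [haj, hj])] at hm
    intro t
    have hm' : E D c₁ (hy.smul aj) ∈ M := by
      rwa [E_congr₂ hj.symm (hy.smul aj) (((hgm.pow j).perp hyp).smul aj) (by rw [hydef, mulVec_inv])]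
    have := scale _ hm' (t / aj)
    rwa [E_congr c₁ _ (hy.smul t) (by rw [smul_smul, div_mul_cancel₀ _ haj0])] at this
  refine omega_le_of_complement hQ hn hgM hgm hw hw0 (c := c₁) fun v hv => ?_
  obtain ⟨α, β, rfl⟩ := hspan v hv
  exact Submodule.add_mem _ (Submodule.smul_mem _ _ (mem_rootSpace_of_E c₁ hx hXall))
    (Submodule.smul_mem _ _ (mem_rootSpace_of_E c₁ hy hy0))

end CfsgLib.OrthGen
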