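import Cfsg.Agent.OrthGen.Generate

/-!
# Two generators of `Ω` over the field with two elements

A root element times an element of order three, and a negative cycle.
-/

set_option autoImplicit false
set_option linter.unusedSectionVars false
set_option maxHeartbeats 800000

namespace CfsgLib.OrthGen

open Matrix Module CfsgLib.Spinor CfsgLib.Forms CfsgLib.Forms4 CfsgLib.OrthMax

variable {F : Type*} [Field F] [Fintype F] {ι : Type} [Fintype ι] [DecidableEq ι]
variable {Q : QuadraticForm F (ι → F)} {k : ℕ}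

set_option quotPrecheck false in
local notation "𝔅" => QuadraticMap.polar (⇑Q)

variable {D : Frame Q (k + 3)}

theorem two_gen_two (hQ : (QuadraticMap.polarBilin Q).Nondegenerate) (hn : 5 ≤ Fintype.card ι)
    (h2 : Fintype.card F = 2) {g : Isom Q} (hgΩ : g ∈ Cfsg.Omega F ⇑Q) (hgm : Mon D g (negCycle (k + 1)))
    {w : ι → F} (hw : Perp D w) (hQw : Q w ≠ 0)
    (hgw : ∀ v, Perp D v → mat Q g *ᵥ v = v - ((Q w)⁻¹ * 𝔅 w v) • w)
    {x0 y0 : ι → F}
    (hspan : ∀ v, Perp D v → ∃ α β : F, v = α • x0 + β • y0) :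
    ∃ a b, a ∈ Cfsg.Omega F ⇑Q ∧ b ∈ Cfsg.Omega F ⇑Q ∧
      Cfsg.Omega F ⇑Q ≤ Subgroup.closure {a, b} := by
  classical
  have hall : ∀ t : F, t = 0 ∨ t = 1 := fun t => by
    by_contra h
    push Not at h
    have h3 : ({0, 1, t} : Finset F).card ≤ 2 := h2 ▸ Finset.card_le_univ _
    rw [Finset.card_insert_of_notMem (by simp [Ne.symm h.1]), Finset.card_insert_of_notMem (by simp [Ne.symm h.2]),
      Finset.card_singleton] at h3
    omega
  have h20 : (2 : F) = 0 := by
    rcases hall 2 with h | h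
    · exact h
    · exact absurd (by linear_combination h : (1 : F) = 0) one_ne_zero
  have hne1 : ∀ t : F, t ≠ 0 → t = 1 := fun t ht => (hall t).resolve_left ht
  have hm1 : (-1 : F) = 1 := by linear_combination -h20
  have hneg : ∀ t : F, -t = t := fun t => by linear_combination -t * h20
  have hvv : ∀ v : ι → F, v + v = 0 := fun v => by rw [← two_smul F v, h20, zero_smul]
  have hvv' : ∀ v z : ι → F, v + (v + z) = z := fun v z => by rw [← add_assoc, hvv, zero_add]
  have hvneg : ∀ v : ι → F, -v = v := fun v => neg_eq_of_add_eq_zero_left (hvv v)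
  have hw0 : w ≠ 0 := fun h => hQw (by rw [h, QuadraticMap.map_zero])
  obtain ⟨x, hx, hwx⟩ := exists_polar_ne hQ hw hw0
  set i0 : Fin (k + 3) := 0
  set i1 : Fin (k + 3) := ⟨1, by omega⟩
  set i2 : Fin (k + 3) := ⟨2, by omega⟩
  have h21 : i2 ≠ i1 := by simp [i1, i2, Fin.ext_iff]
  have h01 : i0 ≠ i1 := by simp [i0, i1, Fin.ext_iff]
  have h02 : i0 ≠ i2 := by simp [i0, i2, Fin.ext_iff]
  -- the cycle on the first three pairs
  have hg1 : negCycle (k + 1) (.inl i0) = .inl i1 := by
    have := (negCycle_castSucc (k := k + 1) ⟨0, by omega⟩).1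
    exact this
  have hg2 : negCycle (k + 1) (.inl i1) = .inl i2 := by
    have := (negCycle_castSucc (k := k + 1) ⟨1, by omega⟩).1
    exact this
  set x1 := mat Q g *ᵥ x with hx1
  set x2 := mat Q g *ᵥ x1 with hx2
  have hp1 : Perp D x1 := hgm.perp hx
  have hp2 : Perp D x2 := hgm.perp hp1
  have hmove : ∀ {c c' : Fin (k + 3) ⊕ Fin (k + 3)} {v : ι → F} (hv : Perp D v),
      negCycle (k + 1) c = c' → g * E D c hv * g⁻¹ = E D c' (hgm.perp hv) := by
    intro c c' v hv hc
    obtain ⟨a, ha, e⟩ := hgm c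
    rw [conj_E hgm hv e]
    exact E_congr₂ (k := k + 1) hc _ _ (by rw [hne1 a ha, one_smul])
  -- the element of order three
  obtain ⟨u, hu⟩ : ∃ u, u = upEl D h21 1 * downEl D h21 1 := ⟨_, rfl⟩
  have huΩ : u ∈ Cfsg.Omega F ⇑Q :=
    hu ▸ mul_mem (rootEl_mem_omega D hQ hn _ _ _ _) (rootEl_mem_omega D hQ hn _ _ _ _)
  have huf : FixPerp D u := fun v hv => by
    simp only [hu, upEl, downEl, mat_mul, ← mulVec_mulVec, rootEl_apply, hv _, mul_zero, zero_smul,
      add_zero, sub_zero]
  have huapp : ∀ c, mat Q u *ᵥ D.e c =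
      if c = .inl i1 then D.e (.inl i1) + D.e (.inl i2) else if c = .inr i1 then D.e (.inr i2)
      else if c = .inl i2 then D.e (.inl i1) else if c = .inr i2 then D.e (.inr i1) + D.e (.inr i2)
      else D.e c := by
    rintro (a | a) <;> simp only [hu, upEl, downEl, mat_mul, ← mulVec_mulVec, rootEl_apply]
    · rcases eq_or_ne a i1 with rfl | a1
      · simp [QuadraticMap.polar_add_right, QuadraticMap.polar_sub_right, D.pol, h21, h21.symm,
          sub_eq_add_neg, hvneg]
      rcases eq_or_ne a i2 with rfl | a2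
      · simp [QuadraticMap.polar_add_right, QuadraticMap.polar_sub_right, D.pol, h21, h21.symm]
      simp [D.pol, a1, a2]
    · rcases eq_or_ne a i1 with rfl | a1
      · simp [QuadraticMap.polar_add_right, QuadraticMap.polar_sub_right, D.pol, h21, h21.symm,
          sub_eq_add_neg, hvneg, hvv, hvv', add_comm, add_left_comm]
      rcases eq_or_ne a i2 with rfl | a2
      · simp [QuadraticMap.polar_add_right, QuadraticMap.polar_sub_right, D.pol, h21, h21.symm,
          sub_eq_add_neg, hvneg, hvv, hvv', add_comm, add_left_comm]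
      simp [D.pol, a1, a2]
  have hu3 : u ^ 3 = 1 := by
    refine isom_ext D (fun c => ?_) fun v hv => by
      simp [pow_succ, mat_mul, ← mulVec_mulVec, huf v hv, mat_one]
    simp only [pow_succ, pow_zero, one_mul, mat_mul, ← mulVec_mulVec, mat_one, one_mulVec, huapp]
    rcases c with a | a
    · rcases eq_or_ne a i1 with rfl | a1
      · simp [mulVec_add, huapp, h21, h21.symm, hvv, hvv', add_comm, add_left_comm]
      rcases eq_or_ne a i2 with rfl | a2
      · simp [mulVec_add, huapp, h21, h21.symm, hvv, hvv', add_comm, add_left_comm]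
      simp [huapp, a1, a2]
    · rcases eq_or_ne a i1 with rfl | a1
      · simp [mulVec_add, huapp, h21, h21.symm, hvv, hvv', add_comm, add_left_comm]
      rcases eq_or_ne a i2 with rfl | a2
      · simp [mulVec_add, huapp, h21, h21.symm, hvv, hvv', add_comm, add_left_comm]
      simp [huapp, a1, a2]
  set X := E D (.inl i0) hx
  have hX2 : X ^ 2 = 1 := by
    rw [E_pow]
    exact E_zero _ _ (by push_cast; rw [h20, zero_smul])
  have hXu : Commute X u := by
    refine Commute.symm ?_
    rw [Commute, SemiconjBy, ← mul_inv_eq_iff_eq_mul]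
    refine mat_ext Q ?_
    rw [mat_mul, mat_mul]
    simp only [X, E, mat_eichIso]
    rw [conj_eich, huf x hx, huapp, mul_assoc, ← mat_mul, mul_inv_cancel, mat_one, mul_one]
    simp [h01, h02]
  refine ⟨X * u, g, mul_mem (E_mem_omega hQ hn _ _) huΩ, hgΩ, ?_⟩
  set M := Subgroup.closure ({X * u, g} : Set (Isom Q))
  have hgM : g ∈ M := Subgroup.subset_closure (by simp)
  have hXM : X ∈ M := by
    have := pow_mem (Subgroup.subset_closure (by simp) : X * u ∈ M) 3
    rwa [hXu.mul_pow, hu3, mul_one, pow_succ, hX2, one_mul] at this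
  have huM : u ∈ M := by simpa using mul_mem (inv_mem hXM) (Subgroup.subset_closure (by simp) : X * u ∈ M)
  have hE1 : E D (.inl i1) hp1 ∈ M := by
    rw [← hmove hx hg1]; exact mul_mem (mul_mem hgM hXM) (inv_mem hgM)
  have hE2 : E D (.inl i2) hp2 ∈ M := by
    rw [← hmove hp1 hg2]; exact mul_mem (mul_mem hgM hE1) (inv_mem hgM)
  have mkRS : ∀ {a v : ι → F} (ha : Q a = 0), 𝔅 a v = 0 → RootMem M a v → v ∈ rootSpace M ha := by
    intro a v ha hav h
    refine ⟨hav, fun t => ?_⟩
    rcases hall t with rfl | rfl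
    · rw [zero_smul]; exact RootMem.zero
    · rwa [one_smul]
  set e1 := D.e (.inl i1)
  set e2 := D.e (.inl i2)
  have h12 : 𝔅 e1 e2 = 0 := by simp [e1, e2, D.pol]
  have hq12 : Q (e1 + e2) = 0 := by
    rw [QuadraticMap.map_add (⇑Q), D.qe, D.qe, h12, add_zero, add_zero]
  have hps : 𝔅 (e1 + e2) x1 = 0 := by
    rw [QuadraticMap.polar_add_left, hp1, hp1, add_zero]
  have hsum : RootMem M (e1 + e2) x1 := by
    have := (rootMem_of_E _ hp1 hE1).conj huM
    rwa [huapp, if_pos rfl, huf x1 hp1] at this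
  have hB : 𝔅 x1 x2 ≠ 0 := by
    rw [hx2, hx1, polar_mulVec, hgw x hx, QuadraticMap.polar_sub_right, polar_self', h20, zero_mul,
      zero_sub, QuadraticMap.polar_smul_right, smul_eq_mul, QuadraticMap.polar_comm (⇑Q) x w, neg_ne_zero]
    exact mul_ne_zero (mul_ne_zero (inv_ne_zero hQw) hwx) hwx
  have he2sum : e2 ∈ rootSpace M hq12 := by
    have hfix : mat Q (E D (.inl i2) hp2) *ᵥ (e1 + e2) = e1 + e2 := by
      rw [E, mat_eichIso, eich_mulVec, QuadraticMap.polar_comm (⇑Q) x2, QuadraticMap.polar_add_left,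
        hp2, hp2, QuadraticMap.polar_add_right, QuadraticMap.polar_comm (⇑Q) (D.e (.inl i2)) e1, h12,
        polar_self_zero (D.qe _)]
      simp
    have h := rootSpace_fixed hE2 hfix (mkRS hq12 hps hsum)
    rw [E, mat_eichIso, eich_mulVec, hp1] at h
    simp only [zero_smul, mul_zero, sub_zero, zero_sub, ← neg_smul, add_sub_cancel_left] at h
    rw [QuadraticMap.polar_comm] at h
    exact (Submodule.smul_mem_iff _ (neg_ne_zero.2 hB)).1 h
  have he21 : e2 ∈ rootSpace M (D.qe (.inl i1)) := by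
    refine rootSpace_swap (hu := D.qe (.inl i2)) (D.qe (.inl i1)) ?_
    have h := Submodule.sub_mem _ (rootSpace_swap (D.qe (.inl i2)) he2sum)
      (self_mem_rootSpace (hu := D.qe (.inl i2)))
    rwa [add_sub_cancel_right] at h
  have hE21 : E D (.inl i2) hp1 ∈ M := by
    have hsum' := hsum.iso hq12 hps
    have hr := rootSpace_iso (Submodule.smul_mem _ (-Q x1) he21)
    have key : eichIso Q (e1 + e2) x1 hq12 hps =
        E D (.inl i1) hp1 * E D (.inl i2) hp1 * eichIso Q e1 ((-Q x1) • e2) (D.qe _)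
          (by rw [QuadraticMap.polar_smul_right, h12, smul_zero]) := mat_ext Q (by
      rw [mat_mul, mat_mul, mat_eichIso, E, E, mat_eichIso, mat_eichIso, mat_eichIso,
        eich_add_left h12 (D.qe _) (D.qe _) (hp1 _) (hp1 _)])
    rw [key] at hsum'
    exact (Subgroup.mul_mem_cancel_left _ hE1).1 ((Subgroup.mul_mem_cancel_right _ hr).1 hsum')
  refine omega_le_of_complement hQ hn hgM hgm hw hw0 (c := .inl i2) fun v hv => ?_
  have r1 := mkRS (D.qe _) (hp1 _) (rootMem_of_E _ hp1 hE21)
  have r2 := mkRS (D.qe _) (hp2 _) (rootMem_of_E _ hp2 hE2)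
  obtain ⟨a, b, ea⟩ := hspan _ hp1
  obtain ⟨c, d, ec⟩ := hspan _ hp2
  have hdet : a * d - b * c ≠ 0 := by
    intro h0
    refine hB ?_
    rw [ea, ec]
    simp only [QuadraticMap.polar_add_left, QuadraticMap.polar_add_right, QuadraticMap.polar_smul_left,
      QuadraticMap.polar_smul_right, smul_eq_mul, polar_self', h20, zero_mul, mul_zero,
      QuadraticMap.polar_comm (⇑Q) y0 x0]
    linear_combination (𝔅 x0 y0) * h0 + (b * c * 𝔅 x0 y0) * h20
  obtain ⟨α, β, rfl⟩ := hspan v hv
  have hx0' : x0 ∈ rootSpace M (D.qe (.inl i2)) := by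
    refine (Submodule.smul_mem_iff _ hdet).1 ?_
    rw [show (a * d - b * c) • x0 = d • x1 - b • x2 by rw [ea, ec]; module]
    exact Submodule.sub_mem _ (Submodule.smul_mem _ _ r1) (Submodule.smul_mem _ _ r2)
  have hy0' : y0 ∈ rootSpace M (D.qe (.inl i2)) := by
    refine (Submodule.smul_mem_iff _ hdet).1 ?_
    rw [show (a * d - b * c) • y0 = a • x2 - c • x1 by rw [ea, ec]; module]
    exact Submodule.sub_mem _ (Submodule.smul_mem _ _ r2) (Submodule.smul_mem _ _ r1)
  exact Submodule.add_mem _ (Submodule.smul_mem _ _ hx0') (Submodule.smul_mem _ _ hy0')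

end CfsgLib.OrthGen
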