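import Cfsg.Agent.OrthGen.GenerateTwo
import Cfsg.Agent.Forms4.POmegaOrders

/-!
# Two generators of the projective groups of the standard forms
-/

set_option autoImplicit false
set_option linter.unusedSectionVars false

namespace CfsgLib.OrthGen

open Matrix Module CfsgLib.Spinor CfsgLib.Forms CfsgLib.Forms4 CfsgLib.OrthMax CfsgLib.StdForms

variable {F : Type*} [Field F] [Fintype F]

section General

variable {ι : Type} [Fintype ι] [DecidableEq ι] {Q : QuadraticForm F (ι → F)}

/-- `PΩ` of a form with a hyperbolic frame of codimension at most two is generated by two elements. -/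
theorem exists_two_gen {k : ℕ} (D : Frame Q (k + 2)) (hQ : (QuadraticMap.polarBilin Q).Nondegenerate)
    (hn : 5 ≤ Fintype.card ι) {w : ι → F} (hw : Perp D w) (hQw : Q w ≠ 0) {x0 y0 : ι → F}
    (hx : Perp D x0) (hy : Perp D y0) (hspan : ∀ v, Perp D v → ∃ α β : F, v = α • x0 + β • y0)
    (hk : 1 ≤ k ∨ (y0 = 0 ∧ 3 ≤ Fintype.card F)) :
    ∃ a b : Cfsg.POmega F ⇑Q, Subgroup.closure ({a, b} : Set (Cfsg.POmega F ⇑Q)) = ⊤ := by
  obtain ⟨g, hgΩ, hgm, hgw⟩ := exists_cycle D hQ hn hw hQw
  obtain ⟨a, b, ha, hb, hle⟩ : ∃ a b, a ∈ Cfsg.Omega F ⇑Q ∧ b ∈ Cfsg.Omega F ⇑Q ∧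
      Cfsg.Omega F ⇑Q ≤ Subgroup.closure {a, b} := by
    by_cases h3 : 3 ≤ Fintype.card F
    · exact two_gen_large hQ hn h3 hgΩ hgm hw (fun h => hQw (by rw [h, QuadraticMap.map_zero])) hx hy
        hspan (hk.imp_right And.left)
    · have h2 : Fintype.card F = 2 := by
        have := Fintype.one_lt_card (α := F)
        omega
      obtain ⟨j, rfl⟩ : ∃ j, k = j + 1 := by
        rcases hk with hk | hk
        · exact ⟨k - 1, by omega⟩
        · exact absurd hk.2 h3
      exact two_gen_two hQ hn h2 hgΩ hgm hw hQw hgw hspan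
  have htop : Subgroup.closure ({⟨a, ha⟩, ⟨b, hb⟩} : Set (Cfsg.Omega F ⇑Q)) = ⊤ := by
    apply Subgroup.map_injective (Cfsg.Omega F ⇑Q).subtype_injective
    rw [MonoidHom.map_closure, Set.image_pair, ← MonoidHom.range_eq_map, Subgroup.range_subtype]
    refine le_antisymm ((Subgroup.closure_le _).2 ?_) hle
    rintro _ (rfl | rfl)
    · exact ha
    · exact hb
  refine ⟨QuotientGroup.mk' _ ⟨a, ha⟩, QuotientGroup.mk' _ ⟨b, hb⟩, ?_⟩
  rw [← Set.image_pair, ← MonoidHom.map_closure, htop, ← MonoidHom.range_eq_map,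
    MonoidHom.range_eq_top]
  exact QuotientGroup.mk'_surjective _

end General

/-- The first pairs of the plus form. -/
def plusFrame (j : ℕ) : Frame (plusQ (j + 1) F) j where
  e := Sum.elim (fun i => Pi.single (Sum.inl i.castSucc) 1) (fun i => Pi.single (Sum.inr i.castSucc) 1)
  qe := by rintro (i | i) <;> simp [plusQ_apply, Cfsg.quadFormPlus, Pi.single_apply]
  pol := by
    rintro (i | i) (l | l) <;> simp [polar_plus, Pi.single_apply, eq_comm]

theorem two_gen_plus {m : ℕ} (hm : 4 ≤ m) {Q : (Fin m ⊕ Fin m → F) → F} (hQ : Q = ⇑(plusQ m F)) :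
    ∃ a b : Cfsg.POmega F Q, Subgroup.closure ({a, b} : Set (Cfsg.POmega F Q)) = ⊤ := by
  subst hQ
  obtain ⟨k, rfl⟩ : ∃ k, m = k + 2 + 1 := ⟨m - 3, by omega⟩
  set D := plusFrame (F := F) (k + 2)
  set L : Fin (k + 2 + 1) := Fin.last (k + 2)
  set x0 : Fin (k + 2 + 1) ⊕ Fin (k + 2 + 1) → F := Pi.single (Sum.inl L) 1 with hx0
  set y0 : Fin (k + 2 + 1) ⊕ Fin (k + 2 + 1) → F := Pi.single (Sum.inr L) 1 with hy0
  have hx : Perp D x0 := by
    rintro (i | i) <;> simp [D, plusFrame, hx0, L, polar_plus, Pi.single_apply, (Fin.castSucc_lt_last i).ne']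
  have hy : Perp D y0 := by
    rintro (i | i) <;> simp [D, plusFrame, hy0, L, polar_plus, Pi.single_apply, (Fin.castSucc_lt_last i).ne']
  refine exists_two_gen D (plusQ_nondegenerate _) (by simp; omega) (hx.add hy) ?_ hx hy (fun v hv => ?_)
    (Or.inl (by omega))
  · simp [plusQ_apply, Cfsg.quadFormPlus, hx0, hy0, Pi.single_apply]
  · refine ⟨v (.inl L), v (.inr L), funext fun c => ?_⟩
    rcases c with c | c <;> induction c using Fin.lastCases with
      | last => simp [hx0, hy0, L]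
      | cast i =>
        first
        | (have := hv (.inr i); simp [D, plusFrame, polar_plus, Pi.single_apply] at this
           simp [hx0, hy0, L, this, Pi.single_apply, Fin.castSucc_ne_last]; done)
        | (have := hv (.inl i); simp [D, plusFrame, polar_plus, Pi.single_apply] at this
           simp [hx0, hy0, L, this, Pi.single_apply, Fin.castSucc_ne_last])

/-- The pairs of the odd form. -/
def oddFrame (m : ℕ) : Frame (oddQ m F) m where
  e c := Pi.single (Sum.inr c) 1
  qe := by rintro (i | i) <;> simp [oddQ_apply, Cfsg.quadFormOdd, Pi.single_apply]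
  pol := by rintro (i | i) (l | l) <;> simp [polar_odd, Pi.single_apply, eq_comm]

theorem two_gen_odd {m : ℕ} (hm : 2 ≤ m) (hodd : Odd (Fintype.card F))
    {Q : (Unit ⊕ (Fin m ⊕ Fin m) → F) → F} (hQ : Q = ⇑(oddQ m F)) :
    ∃ a b : Cfsg.POmega F Q, Subgroup.closure ({a, b} : Set (Cfsg.POmega F Q)) = ⊤ := by
  subst hQ
  obtain ⟨k, rfl⟩ : ∃ k, m = k + 2 := ⟨m - 2, by omega⟩
  have hF : 3 ≤ Fintype.card F := by
    have := Fintype.one_lt_card (α := F)
    obtain ⟨r, hr⟩ := hodd
    omega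
  have h2 : (2 : F) ≠ 0 := by
    intro h
    have hc : ringChar F = 2 := by
      by_contra hne
      exact Ring.two_ne_zero hne h
    rw [FiniteField.even_card_iff_char_two] at hc
    obtain ⟨r, hr⟩ := hodd
    omega
  set D := oddFrame (F := F) (k + 2)
  set z : Unit ⊕ (Fin (k + 2) ⊕ Fin (k + 2)) → F := Pi.single (Sum.inl ()) 1 with hz
  have hzp : Perp D z := by rintro (i | i) <;> simp [D, oddFrame, hz, polar_odd, Pi.single_apply]
  refine exists_two_gen D (oddQ_nondegenerate h2 _) (by simp; omega) hzp ?_ hzp perp_zero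
    (fun v hv => ?_) (Or.inr ⟨rfl, hF⟩)
  · simp [oddQ_apply, Cfsg.quadFormOdd, hz, Pi.single_apply]
  · refine ⟨v (.inl ()), 0, funext fun c => ?_⟩
    rcases c with ⟨⟩ | i | i
    · simp [hz]
    · have := hv (.inr i)
      simp [D, oddFrame, polar_odd, Pi.single_apply] at this
      simp [hz, this]
    · have := hv (.inl i)
      simp [D, oddFrame, polar_odd, Pi.single_apply] at this
      simp [hz, this]

/-- The pairs of the minus form. -/
def minusFrame (k : ℕ) (a b : F) : Frame (minusQ k F a b) k where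
  e c := Pi.single (Sum.inl c) 1
  qe := by rintro (i | i) <;> simp [minusQ_apply, Cfsg.quadFormMinus, Pi.single_apply]
  pol := by rintro (i | i) (l | l) <;> simp [polar_minus, Pi.single_apply, eq_comm]

theorem two_gen_minus {n : ℕ} (hn : 3 ≤ n) {a b : F}
    (hab : ∀ z₁ z₂ : F, z₁ ^ 2 + a * z₁ * z₂ + b * z₂ ^ 2 = 0 → z₁ = 0 ∧ z₂ = 0)
    {Q : ((Fin n ⊕ Fin n) ⊕ Fin 2 → F) → F} (hQ : Q = ⇑(minusQ n F a b)) :
    ∃ g h : Cfsg.POmega F Q, Subgroup.closure ({g, h} : Set (Cfsg.POmega F Q)) = ⊤ := by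
  subst hQ
  obtain ⟨k, rfl⟩ : ∃ k, n = k + 2 := ⟨n - 2, by omega⟩
  set D := minusFrame (k + 2) a b
  set x0 : (Fin (k + 2) ⊕ Fin (k + 2)) ⊕ Fin 2 → F := Pi.single (Sum.inr 0) 1 with hx0
  set y0 : (Fin (k + 2) ⊕ Fin (k + 2)) ⊕ Fin 2 → F := Pi.single (Sum.inr 1) 1 with hy0
  have hx : Perp D x0 := by rintro (i | i) <;> simp [D, minusFrame, hx0, polar_minus, Pi.single_apply]
  have hy : Perp D y0 := by rintro (i | i) <;> simp [D, minusFrame, hy0, polar_minus, Pi.single_apply]
  refine exists_two_gen D (minusQ_nondegenerate _ (Forms4.disc_ne_zero hab)) (by simp; omega) hx ?_ hx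
    hy (fun v hv => ?_) (Or.inl (by omega))
  · simp [minusQ_apply, Cfsg.quadFormMinus, hx0, Pi.single_apply]
  · refine ⟨v (.inr 0), v (.inr 1), funext fun c => ?_⟩
    rcases c with (i | i) | c
    · have := hv (.inr i)
      simp [D, minusFrame, polar_minus, Pi.single_apply] at this
      simp [hx0, hy0, this]
    · have := hv (.inl i)
      simp [D, minusFrame, polar_minus, Pi.single_apply] at this
      simp [hx0, hy0, this]
    · fin_cases c <;> simp [hx0, hy0]

end CfsgLib.OrthGen
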