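import Cfsg.Agent.OrthGen.Basic

/-!
# Weyl elements of a hyperbolic frame

`weyl i j t` exchanges the pairs `i`, `j`; `flip i w` exchanges the two vectors of the pair `i` and
reflects the complement in the anisotropic vector `w`; `cycle` is the product giving a negative cycle.
-/

set_option autoImplicit false
set_option linter.unusedSectionVars false

namespace CfsgLib.OrthGen

open Matrix Module CfsgLib.Spinor CfsgLib.Forms CfsgLib.Forms4 CfsgLib.OrthMax

variable {F : Type*} [Field F] [Fintype F] {ι : Type} [Fintype ι] [DecidableEq ι]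
variable {Q : QuadraticForm F (ι → F)} {n : ℕ} (D : Frame Q n)

set_option quotPrecheck false in
local notation "𝔅" => QuadraticMap.polar (⇑Q)

theorem polar_e_smul (c d : Fin n ⊕ Fin n) (t : F) (h : d ≠ c.swap) : 𝔅 (D.e c) (t • D.e d) = 0 := by
  rw [QuadraticMap.polar_smul_right, D.pol, if_neg h, smul_zero]

/-- A root element of the frame. -/
def rootEl (c d : Fin n ⊕ Fin n) (t : F) (h : d ≠ c.swap) : Isom Q :=
  eichIso Q (D.e c) (t • D.e d) (D.qe c) (polar_e_smul D c d t h)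

theorem rootEl_apply (c d : Fin n ⊕ Fin n) (t : F) (h : d ≠ c.swap) (x : ι → F) :
    mat Q (rootEl D c d t h) *ᵥ x = x + (t * 𝔅 (D.e c) x) • D.e d - (t * 𝔅 (D.e d) x) • D.e c := by
  rw [rootEl, mat_eichIso, eich_mulVec, QuadraticMap.map_smul, D.qe, smul_zero, zero_mul, zero_smul,
    sub_zero, smul_smul, mul_comm _ t, QuadraticMap.polar_smul_left, smul_eq_mul, add_sub_assoc]

theorem rootEl_mem_omega (hQ : (QuadraticMap.polarBilin Q).Nondegenerate) (hn : 5 ≤ Fintype.card ι)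
    (c d : Fin n ⊕ Fin n) (t : F) (h : d ≠ c.swap) : rootEl D c d t h ∈ Cfsg.Omega F ⇑Q :=
  eich_mem_omega hQ hn (D.qe c) _

variable {i j : Fin n}

theorem ne_up (hij : i ≠ j) : (Sum.inr j : Fin n ⊕ Fin n) ≠ (Sum.inl i : Fin n ⊕ Fin n).swap := by
  simp [hij.symm]

theorem ne_down (hij : i ≠ j) : (Sum.inl j : Fin n ⊕ Fin n) ≠ (Sum.inr i : Fin n ⊕ Fin n).swap := by
  simp [hij.symm]

/-- The raising root element of two pairs. -/
def upEl (hij : i ≠ j) (t : F) : Isom Q := rootEl D (.inl i) (.inr j) t (ne_up hij)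

/-- The lowering root element of two pairs. -/
def downEl (hij : i ≠ j) (t : F) : Isom Q := rootEl D (.inr i) (.inl j) t (ne_down hij)

/-- The Weyl element exchanging two pairs. -/
def weyl (hij : i ≠ j) (t : F) : Isom Q := upEl D hij t * downEl D hij t⁻¹ * upEl D hij t

theorem weyl_mem_omega (hQ : (QuadraticMap.polarBilin Q).Nondegenerate) (hn : 5 ≤ Fintype.card ι)
    (hij : i ≠ j) (t : F) : weyl D hij t ∈ Cfsg.Omega F ⇑Q :=
  mul_mem (mul_mem (rootEl_mem_omega D hQ hn _ _ _ _) (rootEl_mem_omega D hQ hn _ _ _ _))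
    (rootEl_mem_omega D hQ hn _ _ _ _)

theorem weyl_spec (hij : i ≠ j) {t : F} (ht : t ≠ 0) :
    mat Q (weyl D hij t) *ᵥ D.e (.inl i) = t⁻¹ • D.e (.inl j) ∧
    mat Q (weyl D hij t) *ᵥ D.e (.inr j) = (-t⁻¹) • D.e (.inr i) ∧
    mat Q (weyl D hij t) *ᵥ D.e (.inr i) = t • D.e (.inr j) ∧
    mat Q (weyl D hij t) *ᵥ D.e (.inl j) = (-t) • D.e (.inl i) ∧
    (∀ k, k ≠ i → k ≠ j → mat Q (weyl D hij t) *ᵥ D.e (.inl k) = D.e (.inl k) ∧
      mat Q (weyl D hij t) *ᵥ D.e (.inr k) = D.e (.inr k)) ∧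
    FixPerp D (weyl D hij t) := by
  refine ⟨?_, ?_, ?_, ?_, fun k hki hkj => ⟨?_, ?_⟩, fun v hv => ?_⟩ <;>
    simp only [weyl, upEl, downEl, mat_mul, ← mulVec_mulVec, rootEl_apply, mulVec_add, mulVec_sub,
      mulVec_smul, QuadraticMap.polar_add_right, QuadraticMap.polar_sub_right,
      QuadraticMap.polar_smul_right, D.pol, Sum.swap_inl, Sum.swap_inr, Sum.inl.injEq, Sum.inr.injEq,
      reduceCtorEq, if_false, if_true, smul_eq_mul, mul_zero, zero_smul, add_zero, sub_zero, zero_add,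
      zero_sub, hij, hij.symm]
  · match_scalars <;> field_simp <;> ring
  · match_scalars <;> field_simp <;> ring
  · match_scalars <;> field_simp <;> ring
  · match_scalars <;> field_simp <;> ring
  · simp [hki, hkj]
  · simp [hki, hkj]
  · simp [hv _]

theorem weyl_mon (hij : i ≠ j) {t : F} (ht : t ≠ 0) :
    Mon D (weyl D hij t) (Equiv.sumCongr (Equiv.swap i j) (Equiv.swap i j)) := by
  obtain ⟨h1, h2, h3, h4, h5, -⟩ := weyl_spec D hij ht
  rintro (k | k)
  · rcases eq_or_ne k i with rfl | hki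
    · exact ⟨_, inv_ne_zero ht, by rw [h1]; simp⟩
    rcases eq_or_ne k j with rfl | hkj
    · exact ⟨_, neg_ne_zero.2 ht, by rw [h4]; simp⟩
    exact ⟨1, one_ne_zero, by rw [(h5 k hki hkj).1]; simp [Equiv.swap_apply_of_ne_of_ne hki hkj]⟩
  · rcases eq_or_ne k i with rfl | hki
    · exact ⟨_, ht, by rw [h3]; simp⟩
    rcases eq_or_ne k j with rfl | hkj
    · exact ⟨_, neg_ne_zero.2 (inv_ne_zero ht), by rw [h2]; simp⟩
    exact ⟨1, one_ne_zero, by rw [(h5 k hki hkj).2]; simp [Equiv.swap_apply_of_ne_of_ne hki hkj]⟩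

/-- Any permutation of the pairs is induced by an element of `Ω` fixing the complement. -/
theorem exists_perm (hQ : (QuadraticMap.polarBilin Q).Nondegenerate) (hn : 5 ≤ Fintype.card ι)
    (π : Equiv.Perm (Fin n)) :
    ∃ g, g ∈ Cfsg.Omega F ⇑Q ∧ Mon D g (Equiv.sumCongr π π) ∧ FixPerp D g := by
  induction π using Equiv.Perm.swap_induction_on with
  | one =>
    refine ⟨1, one_mem _, ?_, fun v _ => by simp [mat_one]⟩
    have : (Equiv.sumCongr (1 : Equiv.Perm (Fin n)) (1 : Equiv.Perm (Fin n))) = 1 :=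
      Equiv.ext fun c => by rcases c with c | c <;> rfl
    rw [this]; exact Mon.one
  | swap_mul f x y hxy ih =>
    obtain ⟨g, hg, hm, hf⟩ := ih
    refine ⟨weyl D hxy 1 * g, mul_mem (weyl_mem_omega D hQ hn hxy 1) hg, ?_,
      (weyl_spec D hxy one_ne_zero).2.2.2.2.2.mul hf⟩
    have : Equiv.sumCongr (Equiv.swap x y * f) (Equiv.swap x y * f) =
        Equiv.sumCongr (Equiv.swap x y) (Equiv.swap x y) * Equiv.sumCongr f f :=
      Equiv.ext fun c => by rcases c with c | c <;> rfl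
    rw [this]
    exact (weyl_mon D hxy one_ne_zero).mul hm

/-- The element exchanging the vectors of one pair. -/
def flipEl (i : Fin n) {w : ι → F} (hw : Perp D w) : Isom Q :=
  E D (.inl i) hw * E D (.inr i) (hw.smul (Q w)⁻¹) * E D (.inl i) hw

theorem flipEl_spec (i : Fin n) {w : ι → F} (hw : Perp D w) (hQw : Q w ≠ 0) :
    mat Q (flipEl D i hw) *ᵥ D.e (.inl i) = (-(Q w)⁻¹) • D.e (.inr i) ∧
    mat Q (flipEl D i hw) *ᵥ D.e (.inr i) = (-Q w) • D.e (.inl i) ∧
    (∀ k, k ≠ i → mat Q (flipEl D i hw) *ᵥ D.e (.inl k) = D.e (.inl k) ∧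
      mat Q (flipEl D i hw) *ᵥ D.e (.inr k) = D.e (.inr k)) ∧
    ∀ v, Perp D v → mat Q (flipEl D i hw) *ᵥ v = v - ((Q w)⁻¹ * 𝔅 w v) • w := by
  have hwe : ∀ c, 𝔅 w (D.e c) = 0 := fun c => by rw [QuadraticMap.polar_comm, hw c]
  have hww : 𝔅 w w = 2 * Q w := polar_self' Q w
  refine ⟨?_, ?_, fun k hki => ⟨?_, ?_⟩, fun v hv => ?_⟩ <;>
    simp only [flipEl, E, mat_mul, mat_eichIso, ← mulVec_mulVec, eich_mulVec, mulVec_add, mulVec_sub,
      mulVec_smul, QuadraticMap.polar_add_right, QuadraticMap.polar_sub_right,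
      QuadraticMap.polar_smul_right, QuadraticMap.polar_smul_left, QuadraticMap.map_smul, D.pol,
      Sum.swap_inl, Sum.swap_inr, Sum.inl.injEq, Sum.inr.injEq, reduceCtorEq, if_false, if_true,
      smul_eq_mul, hwe, hw _, hww, mul_zero, zero_smul, add_zero, sub_zero, zero_add, zero_sub,
      QuadraticMap.polar_neg_right, QuadraticMap.polar_neg_left, QuadraticMap.map_neg, mulVec_neg, neg_smul, smul_neg]
  · match_scalars <;> field_simp <;> ring
  · match_scalars <;> field_simp <;> ring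
  · simp [hki]
  · simp [hki]
  · simp only [hv _, mul_zero, zero_smul, sub_zero, add_zero, zero_sub, zero_add]
    match_scalars <;> field_simp <;> ring

theorem flipEl_mon (i : Fin n) {w : ι → F} (hw : Perp D w) (hQw : Q w ≠ 0) :
    Mon D (flipEl D i hw) (Equiv.swap (.inl i) (.inr i)) := by
  obtain ⟨h1, h2, h3, -⟩ := flipEl_spec D i hw hQw
  rintro (k | k)
  · rcases eq_or_ne k i with rfl | hki
    · exact ⟨_, neg_ne_zero.2 (inv_ne_zero hQw), by rw [h1]; simp⟩
    exact ⟨1, one_ne_zero, by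
      rw [(h3 k hki).1, one_smul, Equiv.swap_apply_of_ne_of_ne (by simp [hki]) (by simp)]⟩
  · rcases eq_or_ne k i with rfl | hki
    · exact ⟨_, neg_ne_zero.2 hQw, by rw [h2]; simp⟩
    exact ⟨1, one_ne_zero, by
      rw [(h3 k hki).2, one_smul, Equiv.swap_apply_of_ne_of_ne (by simp) (by simp [hki])]⟩

/-- The negative cycle. -/
def negCycle (k : ℕ) : Equiv.Perm (Fin (k + 2) ⊕ Fin (k + 2)) :=
  Equiv.swap (.inl 0) (.inr 0) * Equiv.sumCongr (finRotate (k + 2)) (finRotate (k + 2))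

theorem negCycle_castSucc {k : ℕ} (a : Fin (k + 1)) :
    negCycle k (.inl a.castSucc) = .inl a.succ ∧ negCycle k (.inr a.castSucc) = .inr a.succ := by
  have h : finRotate (k + 2) a.castSucc = a.succ := by rw [finRotate_apply, Fin.coeSucc_eq_succ]
  constructor <;>
  · rw [negCycle, Equiv.Perm.mul_apply, Equiv.sumCongr_apply]
    simp only [Sum.map_inl, Sum.map_inr, h]
    exact Equiv.swap_apply_of_ne_of_ne (by simp [Fin.succ_ne_zero]) (by simp [Fin.succ_ne_zero])

theorem negCycle_last (k : ℕ) :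
    negCycle k (.inl (Fin.last (k + 1))) = .inr 0 ∧ negCycle k (.inr (Fin.last (k + 1))) = .inl 0 := by
  constructor <;> simp [negCycle, finRotate_apply, Fin.last_add_one]

/-- A set closed under the negative cycle is everything. -/
theorem all_of_closed {k : ℕ} {S : Set (Fin (k + 2) ⊕ Fin (k + 2))} (hS : ∀ c ∈ S, negCycle k c ∈ S)
    {c : Fin (k + 2) ⊕ Fin (k + 2)} (hc : c ∈ S) : ∀ d, d ∈ S := by
  have up : ∀ (s : Fin (k + 2) → Fin (k + 2) ⊕ Fin (k + 2)),
      (∀ a : Fin (k + 1), negCycle k (s a.castSucc) = s a.succ) →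
      ∀ a, s a ∈ S → ∀ b, a ≤ b → s b ∈ S := by
    intro s hs a ha b
    induction b using Fin.induction with
    | zero => intro h; rwa [← Fin.le_zero_iff.1 h]
    | succ b ih =>
      intro h
      rcases eq_or_lt_of_le h with e | e
      · rwa [← e]
      · rw [← hs]
        exact hS _ (ih (Fin.le_castSucc_iff.2 e))
  have hl := up Sum.inl fun a => (negCycle_castSucc a).1
  have hr := up Sum.inr fun a => (negCycle_castSucc a).2
  have h0 : (Sum.inl 0 : Fin (k + 2) ⊕ Fin (k + 2)) ∈ S := by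
    rcases c with a | a
    · have h1 := hS _ (hl a hc _ (Fin.le_last a))
      rw [(negCycle_last k).1] at h1
      have h2 := hS _ (hr 0 h1 _ (Fin.le_last 0))
      rwa [(negCycle_last k).2] at h2
    · have h2 := hS _ (hr a hc _ (Fin.le_last a))
      rwa [(negCycle_last k).2] at h2
  have h1 := hS _ (hl 0 h0 _ (Fin.le_last 0))
  rw [(negCycle_last k).1] at h1
  rintro (b | b)
  · exact hl 0 h0 b (Fin.zero_le b)
  · exact hr 0 h1 b (Fin.zero_le b)

/-- An element of `Ω` inducing the negative cycle and the reflection in `w` on the complement. -/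
theorem exists_cycle {k : ℕ} (D : Frame Q (k + 2)) (hQ : (QuadraticMap.polarBilin Q).Nondegenerate)
    (hn : 5 ≤ Fintype.card ι) {w : ι → F} (hw : Perp D w) (hQw : Q w ≠ 0) :
    ∃ g, g ∈ Cfsg.Omega F ⇑Q ∧ Mon D g (negCycle k) ∧
      ∀ v, Perp D v → mat Q g *ᵥ v = v - ((Q w)⁻¹ * 𝔅 w v) • w := by
  obtain ⟨C, hC, hm, hf⟩ := exists_perm D hQ hn (finRotate (k + 2))
  refine ⟨flipEl D 0 hw * C, mul_mem ?_ hC, (flipEl_mon D 0 hw hQw).mul hm, fun v hv => ?_⟩
  · exact mul_mem (mul_mem (E_mem_omega hQ hn _ _) (E_mem_omega hQ hn _ _)) (E_mem_omega hQ hn _ _)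
  · rw [mat_mul, ← mulVec_mulVec, hf v hv, (flipEl_spec D 0 hw hQw).2.2.2 v hv]

end CfsgLib.OrthGen
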